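import Groth.Agent.QCohAlg.Gen
import Groth.Agent.RelSpecX.AffHom
import Groth.Agent.RelSpecX.Gamma
import Mathlib

/-!
# Replacing an integral morphism by a finite one without changing an open of finite type
-/

universe u

set_option autoImplicit false
set_option backward.isDefEq.respectTransparency false
set_option backward.isDefEq.respectTransparency.types false

open CategoryTheory CategoryTheory.Limits AlgebraicGeometry TopologicalSpace Opposite

namespace Groth.Agent.QCohAlg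

open Groth.Agent.QCoh RelSpec

/-- An injective map of rings is bijective away from an element as soon as generators are in the image. -/
theorem bijective_away {A M A' M' : Type u} [CommRing A] [CommRing M] [CommRing A'] [CommRing M']
    [Algebra A A'] [Algebra M M'] (φ : A →+* M) (hφ : Function.Injective φ) (ψ : A' →+* M')
    (hc : ∀ a, ψ (algebraMap A A' a) = algebraMap M M' (φ a)) (g : A) [IsLocalization.Away g A']
    [IsLocalization.Away (φ g) M'] (G : Set M') (hG : Subring.closure G = ⊤)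
    (hmem : ∀ t ∈ G, ∃ (n : ℕ) (b : A), t * algebraMap M M' (φ g) ^ n = algebraMap M M' (φ b)) :
    Function.Bijective ψ := by
  constructor
  · rw [injective_iff_map_eq_zero]
    intro x hx
    obtain ⟨n, a, ha⟩ := IsLocalization.Away.surj g x
    have h1 : algebraMap M M' (φ a) = algebraMap M M' 0 := by
      rw [← hc, ← ha, map_mul, hx, zero_mul, map_zero]
    obtain ⟨m, hm⟩ := IsLocalization.Away.exists_of_eq (φ g) h1
    rw [mul_zero, ← map_pow, ← map_mul] at hm
    have h2 : g ^ m * a = 0 := hφ (by rw [hm, map_zero])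
    have hu : IsUnit (algebraMap A A' g) := IsLocalization.Away.algebraMap_isUnit g
    have h3 : algebraMap A A' a = 0 := by
      have := congrArg (algebraMap A A') h2
      rwa [map_mul, map_pow, map_zero, (hu.pow m).mul_right_eq_zero] at this
    rwa [h3, (hu.pow n).mul_left_eq_zero] at ha
  · intro y
    suffices y ∈ ψ.range from this
    refine Subring.closure_le.2 (fun t ht => ?_) (hG.symm ▸ Subring.mem_top y)
    obtain ⟨n, b, hb⟩ := hmem t ht
    have hu : IsUnit (algebraMap A A' g) := IsLocalization.Away.algebraMap_isUnit g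
    obtain ⟨v, hv⟩ := (hu.pow n).exists_left_inv
    refine ⟨v * algebraMap A A' b, ?_⟩
    have h1 : ψ v * algebraMap M M' (φ g) ^ n = 1 := by
      rw [← hc, ← map_pow, ← map_mul, hv, map_one]
    rw [map_mul, hc, ← hb, ← mul_assoc, mul_comm (ψ v) t, mul_assoc, h1, mul_one]

variable {S N : Scheme.{u}}

theorem finiteType_appLE_of_le (π : N ⟶ S) (W : N.Opens) [LocallyOfFiniteType (W.ι ≫ π)] {U : S.Opens}
    (hU : IsAffineOpen U) {D : N.Opens} (hD : IsAffineOpen D) (hDW : D ≤ W) (e : D ≤ π ⁻¹ᵁ U) :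
    (π.appLE U D e).hom.FiniteType := by
  haveI : LocallyOfFiniteType (D.ι ≫ π) := by
    rw [← N.homOfLE_ι hDW, Category.assoc]
    infer_instance
  haveI : IsAffine (D : Scheme.{u}) := hD
  have he : (⊤ : (D : Scheme.{u}).Opens) ≤ (D.ι ≫ π) ⁻¹ᵁ U := fun x _ => e x.2
  have h := (HasRingHomProperty.appLE (P := @LocallyOfFiniteType) (D.ι ≫ π) ‹_› ⟨U, hU⟩ ⟨⊤, isAffineOpen_top _⟩ he)
  rw [← Scheme.Hom.appLE_comp_appLE D.ι π U D ⊤ e (by simp)] at h
  have hiso : IsIso (D.ι.appLE D ⊤ (by simp)) :=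
    RelSpecX.isIso_appLE_of_le_range _ _ _ (by simp) (by simp)
  exact (RingHom.finiteType_respectsIso.cancel_right_isIso (π.appLE U D e) (D.ι.appLE D ⊤ _)).1 h

variable (π : N ⟶ S) [IsIntegralHom π]

/-- The finite factorization. -/
theorem exists_finite_factor [CompactSpace S] [QuasiSeparatedSpace S] (W : N.Opens) (hW : IsCompact (W : Set N))
    [LocallyOfFiniteType (W.ι ≫ π)] :
    ∃ (T : Scheme.{u}) (r : N ⟶ T) (p : T ⟶ S) (W' : T.Opens), IsFinite p ∧ r ≫ p = π ∧ r ⁻¹ᵁ W' = W ∧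
      IsIso (r ∣_ W') ∧ Function.Surjective r.base := by
  classical
  haveI : QuasiCompact π := inferInstance
  let B : QCAlg S := QCAlg.directImage π
  have hch : ∀ x : W, ∃ (U : S.affineOpens) (g : Γ(N, π ⁻¹ᵁ U.1)), x.1 ∈ N.basicOpen g ∧ N.basicOpen g ≤ W := by
    rintro ⟨x, hx⟩
    obtain ⟨_, ⟨U, hU, rfl⟩, hxU, -⟩ := S.isBasis_affineOpens.exists_subset_of_mem_open (Set.mem_univ (π x)) isOpen_univ
    obtain ⟨g, hg, hxg⟩ := (hU.preimage π).exists_basicOpen_le (⟨x, hx⟩ : W) hxU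
    exact ⟨⟨U, hU⟩, g, hxg, hg⟩
  choose U g hxg hgW using hch
  obtain ⟨F, hF⟩ := hW.elim_finite_subcover (fun x : W => (N.basicOpen (g x) : Set N))
    (fun x => (N.basicOpen (g x)).2) fun x hx => Set.mem_iUnion.2 ⟨⟨x, hx⟩, hxg ⟨x, hx⟩⟩
  have hpack : ∀ x : W, ∃ (G : Finset Γ(N, π ⁻¹ᵁ (U x).1)), g x ∈ G ∧
      Subring.closure (Set.range (π.appLE (U x).1 (N.basicOpen (g x)) (N.basicOpen_le _)).hom ∪
        {t | ∃ (n : ℕ) (b : Γ(N, π ⁻¹ᵁ (U x).1)), b ∈ G ∧
          t * (N.presheaf.map (homOfLE (N.basicOpen_le (g x))).op).hom (g x) ^ n =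
            (N.presheaf.map (homOfLE (N.basicOpen_le (g x))).op).hom b}) = ⊤ := by
    intro x
    have hV := (U x).2.preimage π
    have hft := finiteType_appLE_of_le π W (U x).2 (hV.basicOpen (g x)) (hgW x) (N.basicOpen_le _)
    letI alg := (π.appLE (U x).1 (N.basicOpen (g x)) (N.basicOpen_le _)).hom.toAlgebra
    obtain ⟨G₀, hG₀⟩ := (hft : Algebra.FiniteType Γ(S, (U x).1) Γ(N, N.basicOpen (g x))).out
    letI := (N.presheaf.map (homOfLE (N.basicOpen_le (g x))).op).hom.toAlgebra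
    haveI : IsLocalization.Away (g x) Γ(N, N.basicOpen (g x)) := hV.isLocalization_basicOpen (g x)
    choose n b hb using fun t : G₀ => IsLocalization.Away.surj (g x) t.1
    refine ⟨insert (g x) (Finset.univ.image b), Finset.mem_insert_self _ _, eq_top_iff.2 fun y _ => ?_⟩
    have hy : y ∈ (Algebra.adjoin Γ(S, (U x).1) (G₀ : Set Γ(N, N.basicOpen (g x)))).toSubring := by
      rw [hG₀]; trivial
    rw [Algebra.adjoin_eq_ring_closure] at hy
    refine Subring.closure_mono (Set.union_subset_union_right _ ?_) hy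
    intro t ht
    exact ⟨n ⟨t, ht⟩, b ⟨t, ht⟩, Finset.mem_insert_of_mem (Finset.mem_image_of_mem _ (Finset.mem_univ _)), hb ⟨t, ht⟩⟩
  choose G hgG hG using hpack
  choose NN hNN hGN using fun x : F => exists_ftOn_contains (isQCoh_toModule B) (U x.1).2
    (extStep_qcqs (U x.1).2.isCompact) (show Set Γ(B.toModule, (U x.1).1) from ((G x.1 : Set Γ(N, π ⁻¹ᵁ (U x.1).1))))
    (G x.1).finite_toSet
  let NS := sumSub NN
  have hNS : FTOn NS ⊤ := ftOn_sumSub NN hNN
  let B' := gen B NS hNS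
  let ωm : B'.π.base _* B'.spec.presheaf ⟶ AffAlg.alg π := B'.gammaMap ≫ (genι B NS hNS).hom
  have hω : B'.π.c ≫ ωm = π.c := by
    show B'.π.c ≫ B'.gammaMap ≫ _ = _
    rw [reassoc_of% B'.π_c_gammaMap]
    exact (genι B NS hNS).comm
  let ω : AffAlg.algHoms B'.π π := ⟨ωm, hω⟩
  let r : N ⟶ B'.spec := RelSpecX.ofAlgHom B'.π π ω
  have hr : r ≫ B'.π = π := RelSpecX.ofAlgHom_comp _ _ _
  have hpre : ∀ V : S.Opens, π ⁻¹ᵁ V = r ⁻¹ᵁ (B'.π ⁻¹ᵁ V) := fun V => RelSpecX.preimage_eq _ _ r hr V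
  have happ : ∀ (V : S.affineOpens), r.appLE (B'.π ⁻¹ᵁ V.1) (π ⁻¹ᵁ V.1) (hpre V.1).le =
      B'.gammaAff V.1 V.2 ≫ (genι B NS hNS).hom.app (op V.1) := fun V => by
    rw [RelSpecX.appLE_ofAlgHom B'.π π ω V]
    show B'.gammaMap.app (op V.1) ≫ _ = _
    rw [B'.gammaMap_app V.1 V.2]
  have hinj : ∀ V : S.affineOpens, Function.Injective (r.appLE (B'.π ⁻¹ᵁ V.1) (π ⁻¹ᵁ V.1) (hpre V.1).le).hom := fun V => by
    haveI := RelSpecX.isIso_gammaAff B' V.1 V.2
    rw [happ V]
    exact (genι_injective B NS hNS V.1).comp (ConcreteCategory.bijective_of_isIso (B'.gammaAff V.1 V.2)).1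
  have hlift : ∀ (x : F) (b : Γ(N, π ⁻¹ᵁ (U x.1).1)), b ∈ G x.1 →
      ∃ b', (r.appLE (B'.π ⁻¹ᵁ (U x.1).1) (π ⁻¹ᵁ (U x.1).1) (hpre _).le).hom b' = b := fun x b hb => by
    haveI := RelSpecX.isIso_gammaAff B' (U x.1).1 (U x.1).2
    obtain ⟨b', hb'⟩ := (ConcreteCategory.bijective_of_isIso (B'.gammaAff (U x.1).1 (U x.1).2)).2
      ⟨(b : B.presheaf.obj (op (U x.1).1)), genRing_le_genSub B NS _ (Subring.subset_closure (Or.inr
        (le_sumSub NN x _ (hGN x hb))))⟩
    refine ⟨b', ?_⟩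
    rw [happ]
    exact congrArg Subtype.val hb'
  haveI : IsIntegralHom (r ≫ B'.π) := by rw [hr]; infer_instance
  haveI : IsIntegralHom r := IsIntegralHom.of_comp r B'.π
  have hfin : IsFinite B'.π := by
    rw [isFinite_iff]
    refine ⟨inferInstance, fun V hV => ?_⟩
    haveI := RelSpecX.isIso_gammaAff B' V hV
    have h1 : (B'.str.app (op V)).hom.Finite := by
      have hft := gen_finiteType B NS hNS hV
      refine RingHom.Finite.of_isIntegral_of_finiteType ?_ hft
      letI := (B'.str.app (op V)).hom.toAlgebra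
      letI := (π.app V).hom.toAlgebra
      intro z
      have hz := π.isIntegral_app V hV (((genι B NS hNS).hom.app (op V)).hom z)
      let incl : B'.presheaf.obj (op V) →ₐ[Γ(S, V)] Γ(N, π ⁻¹ᵁ V) :=
        ⟨((genι B NS hNS).hom.app (op V)).hom, fun a => rfl⟩
      exact (isIntegral_algHom_iff incl (genι_injective B NS hNS V)).1 hz
    have h2 : B'.π.app V = B'.str.app (op V) ≫ inv (B'.gammaAff V hV) := by
      rw [IsIso.eq_comp_inv, B'.π_app_gammaAff]
    rw [h2, CommRingCat.hom_comp]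
    exact (RingHom.Finite.of_surjective _ (ConcreteCategory.bijective_of_isIso (inv (B'.gammaAff V hV))).2).comp h1
  have hsurj : Function.Surjective r.base := by
    intro t
    obtain ⟨_, ⟨V, hV, rfl⟩, htV, -⟩ := S.isBasis_affineOpens.exists_subset_of_mem_open (Set.mem_univ (B'.π t)) isOpen_univ
    have hT := hV.preimage B'.π
    obtain ⟨q, rfl⟩ : t ∈ Set.range hT.fromSpec := by rw [hT.range_fromSpec]; exact htV
    have hint : (r.appLE (B'.π ⁻¹ᵁ V) (π ⁻¹ᵁ V) (hpre V).le).hom.IsIntegral := by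
      have key : ∀ (E : N.Opens) (e : E ≤ r ⁻¹ᵁ (B'.π ⁻¹ᵁ V)), E = r ⁻¹ᵁ (B'.π ⁻¹ᵁ V) →
          (r.appLE (B'.π ⁻¹ᵁ V) E e).hom.IsIntegral := by
        rintro E e rfl
        rw [← Scheme.Hom.app_eq_appLE]
        exact r.isIntegral_app _ hT
      exact key _ _ (hpre V)
    obtain ⟨Q, hQ⟩ := hint.comap_surjective (hinj ⟨V, hV⟩) q
    refine ⟨(hV.preimage π).fromSpec Q, ?_⟩
    show ((hV.preimage π).fromSpec ≫ r) Q = _
    rw [← IsAffineOpen.SpecMap_appLE_fromSpec r hT (hV.preimage π) (hpre V).le]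
    show hT.fromSpec (PrimeSpectrum.comap _ Q) = hT.fromSpec q
    rw [hQ]
  choose g' hg' using fun x : F => hlift x (g x.1) (hgG x.1)
  have hgpre : ∀ x : F, r ⁻¹ᵁ B'.spec.basicOpen (g' x) = N.basicOpen (g x.1) := fun x => by
    rw [Scheme.preimage_basicOpen, ← hg' x, Scheme.Hom.appLE, CommRingCat.hom_comp, RingHom.comp_apply, Scheme.basicOpen_res]
    exact (inf_eq_right.2 ((Scheme.basicOpen_le _ _).trans (hpre _).ge)).symm
  let W' : B'.spec.Opens := ⨆ x : F, B'.spec.basicOpen (g' x)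
  have hW' : r ⁻¹ᵁ W' = W := by
    rw [Scheme.Hom.preimage_iSup]
    simp only [hgpre]
    refine le_antisymm (iSup_le fun x => hgW x.1) fun y hy => ?_
    obtain ⟨x, hx, hyx⟩ := Set.mem_iUnion₂.1 (hF hy)
    exact Opens.mem_iSup.2 ⟨⟨x, hx⟩, hyx⟩
  refine ⟨B'.spec, r, B'.π, W', hfin, hr, hW', ?_, hsurj⟩
  let O : F → (W' : Scheme.{u}).Opens := fun x => W'.ι ⁻¹ᵁ B'.spec.basicOpen (g' x)
  have hO : ⨆ x, O x = ⊤ := by
    rw [eq_top_iff]
    intro y _
    obtain ⟨x, hx⟩ := Opens.mem_iSup.1 (show y.1 ∈ W' from y.2)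
    exact Opens.mem_iSup.2 ⟨x, hx⟩
  refine (IsZariskiLocalAtTarget.iff_of_iSup_eq_top (P := MorphismProperty.isomorphisms Scheme.{u}) O hO).2 fun x => ?_
  have himg : W'.ι ''ᵁ O x = B'.spec.basicOpen (g' x) := by
    have hle : B'.spec.basicOpen (g' x) ≤ W' := le_iSup (fun x : F => B'.spec.basicOpen (g' x)) x
    exact (W'.ι.image_preimage_eq_opensRange_inf _).trans (by rw [W'.opensRange_ι]; exact inf_eq_right.2 hle)
  refine (MorphismProperty.arrow_mk_iso_iff (MorphismProperty.isomorphisms Scheme.{u})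
    ((morphismRestrictRestrict r W' (O x)).trans (morphismRestrictEq r himg))).2 ?_
  let D := B'.spec.basicOpen (g' x)
  have hTU := (U x.1).2.preimage B'.π
  have hNU := (U x.1).2.preimage π
  have hD : IsAffineOpen D := hTU.basicOpen (g' x)
  have hDN : IsAffineOpen (N.basicOpen (g x.1)) := hNU.basicOpen (g x.1)
  have hbij : Function.Bijective (r.appLE D (N.basicOpen (g x.1)) (hgpre x).ge).hom := by
    letI a1 := (B'.spec.presheaf.map (homOfLE (B'.spec.basicOpen_le (g' x))).op).hom.toAlgebra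
    letI a2 := (N.presheaf.map (homOfLE (N.basicOpen_le (g x.1))).op).hom.toAlgebra
    haveI : IsLocalization.Away (g' x) Γ(B'.spec, D) := hTU.isLocalization_basicOpen (g' x)
    haveI : IsLocalization.Away ((r.appLE (B'.π ⁻¹ᵁ (U x.1).1) (π ⁻¹ᵁ (U x.1).1) (hpre _).le).hom (g' x))
        Γ(N, N.basicOpen (g x.1)) := by
      rw [hg' x]; exact hNU.isLocalization_basicOpen (g x.1)
    refine bijective_away (r.appLE (B'.π ⁻¹ᵁ (U x.1).1) (π ⁻¹ᵁ (U x.1).1) (hpre _).le).hom (hinj (U x.1)) _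
      (fun a => ?_) (g' x) _ (hG x.1) ?_
    · show (B'.spec.presheaf.map _ ≫ r.appLE _ _ _).hom a = (r.appLE _ _ _ ≫ N.presheaf.map _).hom a
      rw [Scheme.Hom.map_appLE, Scheme.Hom.appLE_map]
    · rintro t (⟨a, rfl⟩ | ⟨n, b, hb, hbt⟩)
      · refine ⟨0, (B'.π.app (U x.1).1).hom a, ?_⟩
        rw [pow_zero, mul_one]
        show (π.appLE _ _ _).hom a = (B'.π.app _ ≫ r.appLE _ _ _ ≫ N.presheaf.map _).hom a
        congr 2
        rw [Scheme.Hom.app_eq_appLE, ← Category.assoc, Scheme.Hom.appLE_comp_appLE, Scheme.Hom.appLE_map]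
        simp only [hr]
      · obtain ⟨b', hb'⟩ := hlift x b hb
        refine ⟨n, b', ?_⟩
        rw [hg' x, hb']
        exact hbt
  show IsIso (r ∣_ D)
  haveI : IsAffine (D : Scheme.{u}) := hD
  refine (HasAffineProperty.iff_of_isAffine (P := MorphismProperty.isomorphisms Scheme.{u})).2 ⟨?_, ?_⟩
  · show IsAffineOpen (r ⁻¹ᵁ D)
    rw [hgpre x]; exact hDN
  · rw [morphismRestrict_appTop]
    haveI : IsIso (r.app D) := by
      rw [ConcreteCategory.isIso_iff_bijective, Scheme.Hom.app_eq_appLE]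
      have key : ∀ (E : N.Opens) (e : E ≤ r ⁻¹ᵁ D), E = r ⁻¹ᵁ D → Function.Bijective (r.appLE D E e).hom →
          Function.Bijective (r.appLE D (r ⁻¹ᵁ D) le_rfl).hom := by
        rintro E e rfl h; exact h
      exact key _ _ (hgpre x).symm hbij
    have e2 : ∀ A : B'.spec.Opens, A = D → IsIso (r.app A) := fun A h => h ▸ ‹_›
    haveI := e2 _ D.ι_image_top
    infer_instance

end Groth.Agent.QCohAlg
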