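import Groth.Agent.QCoh.AlgGen
import Mathlib

/-!
# The quasi-coherent subalgebra generated by a submodule of finite type
-/

universe u

set_option autoImplicit false
set_option backward.isDefEq.respectTransparency false
set_option backward.isDefEq.respectTransparency.types false

open CategoryTheory CategoryTheory.Limits AlgebraicGeometry TopologicalSpace Opposite

namespace Groth.Agent.QCohAlg

open Groth.Agent.QCoh RelSpec

variable {X : Scheme.{u}} (B : QCAlg X) (N : SubMod B.toModule)

theorem rB_rB {U V W : X.Opens} (h : V ≤ U) (h' : W ≤ V) (b : B.presheaf.obj (op U)) :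
    rB B h' (rB B h b) = rB B (h'.trans h) b := by
  show (B.presheaf.map _ ≫ B.presheaf.map _).hom b = _
  rw [← Functor.map_comp]
  rfl

/-- Sections lying locally in the ring generated by the submodule. -/
noncomputable def genSub (O : X.Opens) : Subring (B.presheaf.obj (op O)) where
  carrier := {b | ∀ x ∈ O, ∃ (P : X.Opens) (hP : P ≤ O), x ∈ P ∧ rB B hP b ∈ genRing B N P}
  zero_mem' := fun x hx => ⟨O, le_rfl, hx, by rw [map_zero]; exact zero_mem _⟩
  one_mem' := fun x hx => ⟨O, le_rfl, hx, by rw [map_one]; exact one_mem _⟩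
  neg_mem' := fun {a} ha x hx => by
    obtain ⟨P, hP, hxP, h⟩ := ha x hx
    exact ⟨P, hP, hxP, by rw [map_neg]; exact neg_mem h⟩
  add_mem' := fun {a b} ha hb x hx => by
    obtain ⟨P, hP, hxP, h1⟩ := ha x hx
    obtain ⟨Q, hQ, hxQ, h2⟩ := hb x hx
    refine ⟨P ⊓ Q, inf_le_left.trans hP, ⟨hxP, hxQ⟩, ?_⟩
    rw [map_add]
    have e1 := rB_mem_genRing B N (inf_le_left : P ⊓ Q ≤ P) h1
    have e2 := rB_mem_genRing B N (inf_le_right : P ⊓ Q ≤ Q) h2
    rw [rB_rB] at e1 e2
    exact add_mem e1 e2
  mul_mem' := fun {a b} ha hb x hx => by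
    obtain ⟨P, hP, hxP, h1⟩ := ha x hx
    obtain ⟨Q, hQ, hxQ, h2⟩ := hb x hx
    refine ⟨P ⊓ Q, inf_le_left.trans hP, ⟨hxP, hxQ⟩, ?_⟩
    rw [map_mul]
    have e1 := rB_mem_genRing B N (inf_le_left : P ⊓ Q ≤ P) h1
    have e2 := rB_mem_genRing B N (inf_le_right : P ⊓ Q ≤ Q) h2
    rw [rB_rB] at e1 e2
    exact mul_mem e1 e2

theorem rB_mem_genSub {U V : X.Opens} (h : V ≤ U) {b} (hb : b ∈ genSub B N U) :
    rB B h b ∈ genSub B N V := fun x hx => by
  obtain ⟨P, hP, hxP, h1⟩ := hb x (h hx)
  refine ⟨P ⊓ V, inf_le_right, ⟨hxP, hx⟩, ?_⟩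
  have e := rB_mem_genRing B N (inf_le_left : P ⊓ V ≤ P) h1
  rw [rB_rB] at e
  rwa [rB_rB]

theorem genRing_le_genSub (U : X.Opens) : genRing B N U ≤ genSub B N U :=
  fun b hb x hx => ⟨U, le_rfl, hx, rB_mem_genRing B N le_rfl hb⟩

theorem genSub_le_genRing (hN : FTOn N ⊤) {U : X.Opens} (hU : IsAffineOpen U) :
    genSub B N U ≤ genRing B N U := by
  intro b hb
  let bM : Γ(B.toModule, U) := b
  let I : Ideal Γ(X, U) :=
  { carrier := {a | (B.str.app (op U)).hom a * b ∈ genRing B N U}
    zero_mem' := by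
      show (B.str.app (op U)).hom 0 * b ∈ genRing B N U
      rw [map_zero, zero_mul]; exact zero_mem _
    add_mem' := fun {a c} ha hc => by
      show (B.str.app (op U)).hom (a + c) * b ∈ genRing B N U
      rw [map_add, add_mul]; exact add_mem ha hc
    smul_mem' := fun r a ha => by
      show (B.str.app (op U)).hom (r * a) * b ∈ genRing B N U
      rw [map_mul, mul_assoc]; exact mul_mem (str_mem_genRing B N r) ha }
  have hI : I.radical = ⊤ := by
    refine top_unique ((hU.self_le_iSup_basicOpen_iff (s := (I.radical : Set Γ(X, U)))).1 ?_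
      |>.ge.trans (Ideal.span_le.2 subset_rfl))
    intro x hx
    obtain ⟨P, hP, hxP, hbP⟩ := hb x hx
    obtain ⟨g, hg, hxg⟩ := hU.exists_basicOpen_le (⟨x, hxP⟩ : P) hx
    have hbg := rB_mem_genRing B N hg hbP
    rw [rB_rB] at hbg
    obtain ⟨n, c, hc, hcb⟩ := exists_lift_genRing B hN hU g hbg
    have h0 : rs B.toModule (X.basicOpen_le g) (g ^ n • bM - (show Γ(B.toModule, U) from c)) = 0 := by
      show rB B (X.basicOpen_le g) ((B.str.app (op U)).hom (g ^ n) * b - c) = 0
      rw [map_sub, map_mul, map_pow, map_pow, rB_str, hcb, sub_self]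
    obtain ⟨m, hm⟩ := exists_pow_smul_eq_zero (isQCoh_toModule B) hU g _ h0
    refine Opens.mem_iSup.2 ⟨⟨g, ⟨m + n, ?_⟩⟩, hxg⟩
    show (B.str.app (op U)).hom (g ^ (m + n)) * b ∈ genRing B N U
    have hm' : (B.str.app (op U)).hom (g ^ m) * ((B.str.app (op U)).hom (g ^ n) * b - c) = 0 := hm
    rw [mul_sub, sub_eq_zero, ← mul_assoc, ← map_mul, ← pow_add] at hm'
    rw [hm']
    exact mul_mem (str_mem_genRing B N _) hc
  have h1 : (1 : Γ(X, U)) ∈ I := (Ideal.eq_top_iff_one _).1 (Ideal.radical_eq_top.1 hI)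
  have h2 : (B.str.app (op U)).hom 1 * b ∈ genRing B N U := h1
  rwa [map_one, one_mul] at h2

/-- The presheaf of generated subrings. -/
noncomputable def genPresheaf : TopCat.Presheaf CommRingCat.{u} X.carrier where
  obj O := CommRingCat.of (genSub B N O.unop)
  map {U V} i := CommRingCat.ofHom (((B.presheaf.map i).hom).restrict (genSub B N U.unop) (genSub B N V.unop)
    fun b hb => rB_mem_genSub B N (leOfHom i.unop) hb)
  map_id U := by
    ext b
    show (B.presheaf.map (𝟙 U)).hom b.1 = b.1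
    rw [B.presheaf.map_id]
    rfl
  map_comp i j := by
    ext b
    show (B.presheaf.map (i ≫ j)).hom b.1 = (B.presheaf.map j).hom ((B.presheaf.map i).hom b.1)
    rw [B.presheaf.map_comp]
    rfl

theorem isSheaf_genPresheaf : (genPresheaf B N).IsSheaf := by
  refine (TopCat.Presheaf.isSheaf_iff_isSheafUniqueGluing (X := X.toPresheafedSpace.carrier)
    (genPresheaf B N)).2 fun ι U sf hsf => ?_
  obtain ⟨s, hs, huniq⟩ := (TopCat.Presheaf.isSheaf_iff_isSheafUniqueGluing (X := X.toPresheafedSpace.carrier)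
    B.presheaf).1 B.isSheaf U (fun i => (sf i).1) (fun i j => congrArg Subtype.val (hsf i j))
  have hmem : s ∈ genSub B N (iSup U) := fun x hx => by
    obtain ⟨i, hi⟩ := Opens.mem_iSup.1 hx
    obtain ⟨P, hP, hxP, h⟩ := (sf i).2 x hi
    refine ⟨P, hP.trans (le_iSup U i), hxP, ?_⟩
    rw [← rB_rB B (le_iSup U i) hP]
    have h1 : rB B (le_iSup U i) s = (sf i).1 := hs i
    rw [h1]
    exact h
  exact ⟨⟨s, hmem⟩, fun i => Subtype.ext (hs i), fun t ht =>
    Subtype.ext (huniq t.1 fun i => congrArg Subtype.val (ht i))⟩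

/-- The structure map into the generated algebra. -/
noncomputable def genStr : X.presheaf ⟶ genPresheaf B N where
  app O := CommRingCat.ofHom ((B.str.app O).hom.codRestrict (genSub B N O.unop)
    fun a => genRing_le_genSub B N _ (str_mem_genRing B N a))
  naturality U V i := by
    ext a
    exact Subtype.ext congr($(B.str.naturality i) a)

theorem isQC_gen (hN : FTOn N ⊤) : IsQC (genPresheaf B N) (genStr B N) := by
  intro U hU r
  letI i1 := ((genPresheaf B N).map (homOfLE (X.basicOpen_le r)).op).hom.toAlgebra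
  letI i2 := (B.presheaf.map (homOfLE (X.basicOpen_le r)).op).hom.toAlgebra
  haveI := B.isQC U hU r
  refine IsLocalization.Away.mk _ ?_ ?_ ?_
  · show IsUnit (((genPresheaf B N).map (homOfLE (X.basicOpen_le r)).op).hom (((genStr B N).app (op U)).hom r))
    have h := congr($((genStr B N).naturality (homOfLE (X.basicOpen_le r)).op) r)
    exact h ▸ ((isUnit_rf_basicOpen r).map ((genStr B N).app (op (X.basicOpen r))).hom)
  · intro z
    obtain ⟨n, c, hc, hcz⟩ := exists_lift_genRing B hN hU r (genSub_le_genRing B N hN (hU.basicOpen r) z.2)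
    refine ⟨n, ⟨c, genRing_le_genSub B N _ hc⟩, Subtype.ext ?_⟩
    show z.1 * rB B (X.basicOpen_le r) ((B.str.app (op U)).hom r) ^ n = rB B (X.basicOpen_le r) c
    rw [hcz, rB_str, mul_comm]
  · intro a b hab
    obtain ⟨n, hn⟩ := IsLocalization.Away.exists_of_eq ((B.str.app (op U)).hom r)
      (S := B.presheaf.obj (op (X.basicOpen r))) (congrArg Subtype.val hab)
    exact ⟨n, Subtype.ext hn⟩

/-- The generated quasi-coherent subalgebra. -/
noncomputable def gen (hN : FTOn N ⊤) : QCAlg X where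
  presheaf := genPresheaf B N
  isSheaf := isSheaf_genPresheaf B N
  str := genStr B N
  isQC := isQC_gen B N hN

/-- Its inclusion. -/
noncomputable def genι (hN : FTOn N ⊤) : gen B N hN ⟶ B :=
  ⟨{ app := fun O => CommRingCat.ofHom (genSub B N O.unop).subtype
     naturality := fun U V i => rfl }, by ext O a; rfl⟩

theorem genι_injective (hN : FTOn N ⊤) (V : X.Opens) :
    Function.Injective ((genι B N hN).hom.app (op V)).hom := fun _ _ h => Subtype.ext h

theorem gen_finiteType (hN : FTOn N ⊤) {V : X.Opens} (hV : IsAffineOpen V) :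
    ((gen B N hN).str.app (op V)).hom.FiniteType := by
  classical
  have hfin : Module.Finite Γ(X, V) Γ(N.toModules, V) :=
    (isFT_iff (isQCoh_of_ftOn (isQCoh_toModule B) hN)).1 (isFT_of_ftOn (isQCoh_toModule B) hN) ⟨V, hV⟩
  obtain ⟨T, hT⟩ := hfin.fg_top
  let T' : Finset (gen B N hN |>.presheaf.obj (op V)) := T.image fun t =>
    ⟨N.ι.app V t, genRing_le_genSub B N V (Subring.subset_closure (Or.inr (N.ι_app_mem V t)))⟩
  letI := ((gen B N hN).str.app (op V)).hom.toAlgebra
  refine ⟨⟨T', top_unique fun z _ => ?_⟩⟩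
  suffices ∀ b ∈ genRing B N V, ∀ hb : b ∈ genSub B N V,
      (⟨b, hb⟩ : (gen B N hN).presheaf.obj (op V)) ∈ Algebra.adjoin Γ(X, V) (T' : Set ((gen B N hN).presheaf.obj (op V))) by
    exact this z.1 (genSub_le_genRing B N hN hV z.2) z.2
  let R' := (gen B N hN).presheaf.obj (op V)
  let A : Subalgebra Γ(X, V) R' := Algebra.adjoin Γ(X, V) (T' : Set R')
  let w : Γ(N.toModules, V) → R' := fun t =>
    ⟨N.ι.app V t, genRing_le_genSub B N V (Subring.subset_closure (Or.inr (N.ι_app_mem V t)))⟩
  have key : ∀ t : Γ(N.toModules, V), w t ∈ A := by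
    intro t
    have hs : t ∈ Submodule.span Γ(X, V) (T : Set Γ(N.toModules, V)) := hT ▸ Submodule.mem_top
    induction hs using Submodule.span_induction with
    | mem t ht => exact Algebra.subset_adjoin (Finset.mem_image.2 ⟨t, ht, rfl⟩)
    | zero =>
      have e : w 0 = 0 := Subtype.ext (map_zero (N.ι.app V).hom)
      rw [e]; exact zero_mem _
    | add s t _ _ hs ht =>
      have e : w (s + t) = w s + w t := Subtype.ext (map_add (N.ι.app V).hom s t)
      rw [e]; exact add_mem hs ht
    | smul a s _ hs =>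
      have e : w (a • s) = algebraMap Γ(X, V) R' a * w s := Subtype.ext (ι_app_smul a s)
      rw [e]; exact mul_mem (A.algebraMap_mem a) hs
  intro b hb
  induction hb using Subring.closure_induction with
  | mem x hx =>
    intro hx'
    rcases hx with ⟨a, rfl⟩ | hx
    · exact A.algebraMap_mem a
    · obtain ⟨s, rfl⟩ := N.exists_app_eq hx
      exact key s
  | zero => exact fun _ => zero_mem _
  | one => exact fun _ => one_mem _
  | add x y hx hy hx' hy' =>
    intro h
    exact add_mem (hx' (genRing_le_genSub B N V hx)) (hy' (genRing_le_genSub B N V hy))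
  | neg x hx hx' => exact fun _ => neg_mem (hx' (genRing_le_genSub B N V hx))
  | mul x y hx hy hx' hy' =>
    intro h
    exact mul_mem (hx' (genRing_le_genSub B N V hx)) (hy' (genRing_le_genSub B N V hy))

/-- Every section on an affine open lies in a subalgebra of finite type. -/
theorem exists_ft_sub {U : X.Opens} (hU : IsAffineOpen U) (hs : ExtStep U) (T : Set (B.presheaf.obj (op U))) (hT : T.Finite) :
    ∃ (B' : QCAlg X) (φ : B' ⟶ B),
      (∀ V : X.Opens, Function.Injective (φ.hom.app (op V)).hom) ∧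
      (∀ V : X.affineOpens, (B'.str.app (op (V : X.Opens))).hom.FiniteType) ∧
      T ⊆ Set.range (φ.hom.app (op U)).hom := by
  obtain ⟨N, hN, hTN⟩ := exists_ftOn_contains (isQCoh_toModule B) hU hs (show Set Γ(B.toModule, U) from T) hT
  exact ⟨gen B N hN, genι B N hN, genι_injective B N hN, fun V => gen_finiteType B N hN V.2,
    fun t ht => ⟨⟨t, genRing_le_genSub B N U (Subring.subset_closure (Or.inr (hTN ht)))⟩, rfl⟩⟩

end Groth.Agent.QCohAlg
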